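import Groth.Agent.Lib.LimCoh25.ProdExt
import Groth.Agent.Lib.SheafCoh.Sections
import Groth.Prelude.Def_CohTop
import Mathlib.Topology.Sheaves.LocallySurjective
import Mathlib.CategoryTheory.Limits.Preserves.Shapes.Products
import Mathlib.CategoryTheory.Limits.Shapes.ConcreteCategory
import Mathlib.Algebra.Category.Grp.Limits
import Groth.Agent.Lib.SheafCoh.Acyclic

/-!
# Cohomology of limits of towers of sheaves with acyclic sections on a basis
-/

universe u

open CategoryTheory Limits Abelian Opposite TopologicalSpace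

namespace GrothLib.LimCoh25

open GrothLib.SheafCoh

variable {X : TopCat.{u}}

/-- The predicate: acyclic on a set of opens. -/
def AcycOn (B : Set (Opens X)) (F : CohTop.Ab X) : Prop :=
  ∀ V ∈ B, ∀ i : ℕ, Subsingleton (Ext.{u} (freeY (Opens.grothendieckTopology X) V) F (i + 1))

theorem acycOn_of_HU (B : Set (Opens X)) (F : CohTop.Ab X)
    (h : ∀ V ∈ B, ∀ i : ℕ, 0 < i → Subsingleton (CohTop.HU F i V)) : AcycOn B F :=
  fun V hV i => @Equiv.subsingleton _ _
    (HUext (J := Opens.grothendieckTopology X) F (i + 1) V).symm.toEquiv (h V hV (i + 1) (Nat.succ_pos i))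

/-- A section of a product from its components. -/
theorem exists_pi_section {ι : Type} (G : ι → CohTop.Ab X) (V : Opens X)
    (s : ∀ k, (G k).obj.obj (op V)) :
    ∃ t : (∏ᶜ G).obj.obj (op V), ∀ k, (Pi.π G k).hom.app (op V) t = s k := by
  let S := sheafToPresheaf (Opens.grothendieckTopology X) AddCommGrpCat.{u} ⋙ (evaluation _ _).obj (op V)
  let e := PreservesProduct.iso S G
  refine ⟨e.inv ((Concrete.productEquiv fun k => S.obj (G k)).symm s), fun k => ?_⟩
  have h : e.inv ≫ S.map (Pi.π G k) = Pi.π (fun k => S.obj (G k)) k := by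
    rw [Iso.inv_comp_eq, PreservesProduct.iso_hom, piComparison_comp_π]
  refine (ConcreteCategory.congr_hom h _).trans ?_
  exact Concrete.productEquiv_symm_apply_π (fun k => S.obj (G k)) s k

/-- Two sections of a product with the same components agree. -/
theorem pi_section_ext {ι : Type} (G : ι → CohTop.Ab X) (V : Opens X)
    (t t' : (∏ᶜ G).obj.obj (op V))
    (h : ∀ k, (Pi.π G k).hom.app (op V) t = (Pi.π G k).hom.app (op V) t') : t = t' := by
  let S := sheafToPresheaf (Opens.grothendieckTopology X) AddCommGrpCat.{u} ⋙ (evaluation _ _).obj (op V)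
  refine Concrete.isLimit_ext _ (isLimitOfPreserves S (limit.isLimit (Discrete.functor G))) t t' ?_
  rintro ⟨k⟩
  exact h k

theorem epi_of_basis {F G : CohTop.Ab X} (g : F ⟶ G) {B : Set (Opens X)} (hB : Opens.IsBasis B)
    (h : ∀ V ∈ B, Function.Surjective (g.hom.app (op V))) : Epi g := by
  refine (TopCat.Sheaf.isLocallySurjective_iff_epi (X := X) g).1 ?_
  refine (TopCat.Presheaf.isLocallySurjective_iff _).2 fun U t p hp => ?_
  obtain ⟨V, hV, hpV, hVU⟩ := Opens.isBasis_iff_nbhd.1 hB hp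
  exact ⟨V, hVU, h V hV _, hpV⟩

theorem bijective_pi_acycOn {ι : Type} (B : Set (Opens X)) (hB : Opens.IsBasis B) (A : CohTop.Ab X)
    (i : ℕ) (F : ι → CohTop.Ab X) (hF : ∀ k, AcycOn B (F k)) :
    Function.Bijective
      (fun (x : Ext.{u} A (∏ᶜ F) i) k => x.comp (Ext.mk₀ (Pi.π F k)) (add_zero i)) := by
  refine bijective_pi (AcycOn B) (fun I hI V _ i => ?_) (fun S hS h₁ h₂ V hV i => ?_)
    (fun S hS hP => ?_) A i F hF
  · exact Ext.subsingleton_of_injective _ _ _
  · refine subsingleton_of_forall_eq 0 fun x => ?_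
    obtain ⟨y, hy⟩ := Ext.covariant_sequence_exact₃ _ hS x (n₁ := i + 2) (by omega)
      (@Subsingleton.elim _ (h₁ V hV (i + 1)) _ _)
    rw [← hy, @Subsingleton.elim _ (h₂ V hV i) y 0, Ext.zero_comp]
  · refine epi_of_basis _ hB fun V hV s => ?_
    have hl : ∀ k, ∃ r, (S k).g.hom.app (op V) r = (Pi.π (fun k => (S k).X₃) k).hom.app (op V) s := by
      intro k
      obtain ⟨g', hg'⟩ := surjective_of_subsingleton (hS k) (hP k V hV 0)
        ((homFreeY (J := Opens.grothendieckTopology X) (S k).X₃ V).symm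
          ((Pi.π (fun k => (S k).X₃) k).hom.app (op V) s))
      refine ⟨homFreeY _ _ g', ?_⟩
      rw [← homFreeY_comp, hg', AddEquiv.apply_symm_apply]
    choose r hr using hl
    obtain ⟨t, ht⟩ := exists_pi_section (fun k => (S k).X₂) V r
    refine ⟨t, pi_section_ext (fun k => (S k).X₃) V _ _ fun k => ?_⟩
    refine (ConcreteCategory.congr_hom
      (congrArg (fun g => g.hom.app (op V)) (Pi.map_π (fun k => (S k).g) k)) t).trans ?_
    exact (congrArg ((S k).g.hom.app (op V)) (ht k)).trans (hr k)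

theorem epi_diff (F : ℕᵒᵖ ⥤ CohTop.Ab X) (B : Set (Opens X)) (hB : Opens.IsBasis B)
    (hsurj : ∀ V ∈ B, ∀ n : ℕ,
      Function.Surjective ((F.map (homOfLE (Nat.le_succ n)).op).hom.app (op V)).hom) :
    Epi (diff F) := by
  refine epi_of_basis _ hB fun V hV b => ?_
  let G : ℕ → CohTop.Ab X := fun n => F.obj (op n)
  choose g hg using hsurj V hV
  let a : ∀ n, (G n).obj.obj (op V) := fun n =>
    Nat.rec 0 (fun k ak => g k (ak - (Pi.π G k).hom.app (op V) b)) n
  obtain ⟨t, ht⟩ := exists_pi_section G V a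
  refine ⟨t, pi_section_ext G V _ _ fun n => ?_⟩
  refine (ConcreteCategory.congr_hom
    (congrArg (fun g => g.hom.app (op V)) (Pi.lift_π
      (fun n => Pi.π G n - Pi.π G (n + 1) ≫ F.map (homOfLE (Nat.le_succ n)).op) n)) t).trans ?_
  change (Pi.π G n).hom.app (op V) t -
    (F.map (homOfLE (Nat.le_succ n)).op).hom.app (op V) ((Pi.π G (n + 1)).hom.app (op V) t) = _
  rw [ht, ht]
  have h1 : (F.map (homOfLE (Nat.le_succ n)).op).hom.app (op V) (a (n + 1)) =
      a n - (Pi.π G n).hom.app (op V) b := hg n _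
  rw [h1, sub_sub_cancel]

/-- Cohomology of the limit of a tower. -/
theorem cohomology_tower (F : ℕᵒᵖ ⥤ CohTop.Ab X) (B : Set (Opens X)) (hB : Opens.IsBasis B)
    (hsurj : ∀ V ∈ B, ∀ n : ℕ,
      Function.Surjective ((F.map (homOfLE (Nat.le_succ n)).op).hom.app (op V)).hom)
    (hvan : ∀ V ∈ B, ∀ (n i : ℕ), 0 < i → Subsingleton (CohTop.HU (F.obj (op n)) i V))
    (A : CohTop.Ab X) (i j : ℕ) (hij : j + 1 = i) :
    (∀ ξ : ∀ n : ℕ, Ext.{u} A (F.obj (op n)) i,
      (∀ n, (ξ (n + 1)).comp (Ext.mk₀ (F.map (homOfLE (Nat.le_succ n)).op)) (add_zero i) = ξ n) →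
        ∃ η : Ext A (limit F) i, ∀ n, η.comp (Ext.mk₀ (limit.π F (op n))) (add_zero i) = ξ n) ∧
    Nonempty ((AddMonoidHom.mk' (fun (η : Ext.{u} A (limit F) i) (n : ℕ) =>
        η.comp (Ext.mk₀ (limit.π F (op n))) (add_zero i))
        (fun a b => funext fun n => Ext.add_comp a b _ _)).ker ≃+
      Formal2.limOne (fun n : ℕ => Ext.{u} A (F.obj (op n)) j)
        (fun n : ℕ => (Ext.mk₀ (F.map (homOfLE (Nat.le_succ n)).op)).postcomp A (add_zero j))) :=
  tower_sequence F A (epi_diff F B hB hsurj)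
    (fun i => bijective_pi_acycOn B hB A i (fun n => F.obj (op n))
      fun n => acycOn_of_HU B _ fun V hV i hi => hvan V hV n i hi) i j hij

end GrothLib.LimCoh25
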