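import Groth.Agent.Lib.LimCoh25.ProdExt
import Mathlib.Algebra.Homology.HomologySequence
import Mathlib.Algebra.Homology.HomologicalComplexAbelian
import Mathlib.Algebra.Homology.HomologicalComplexLimits
import Mathlib.Algebra.Homology.ShortComplex.Ab
import Mathlib.Algebra.Category.Grp.Abelian
import Mathlib.Algebra.Category.Grp.Limits
import Mathlib.CategoryTheory.Limits.Preserves.Shapes.Products
import Mathlib.CategoryTheory.Limits.Shapes.ConcreteCategory

/-!
# Cohomology of limits of towers of complexes of abelian groups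
-/

universe u

open CategoryTheory Limits Opposite

namespace GrothLib.LimCoh25

variable {ι : Type} (C : ι → HomologicalComplex AddCommGrpCat.{u} (ComplexShape.up ℤ))

theorem exists_pi_term (q : ℤ) (s : ∀ k, (C k).X q) :
    ∃ t : (∏ᶜ C).X q, ∀ k, (Pi.π C k).f q t = s k := by
  let S := HomologicalComplex.eval AddCommGrpCat.{u} (ComplexShape.up ℤ) q
  let e := PreservesProduct.iso S C
  refine ⟨e.inv ((Concrete.productEquiv fun k => S.obj (C k)).symm s), fun k => ?_⟩
  have h : e.inv ≫ S.map (Pi.π C k) = Pi.π (fun k => S.obj (C k)) k := by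
    rw [Iso.inv_comp_eq, PreservesProduct.iso_hom, piComparison_comp_π]
  refine (ConcreteCategory.congr_hom h _).trans ?_
  exact Concrete.productEquiv_symm_apply_π (fun k => S.obj (C k)) s k

theorem pi_term_ext (q : ℤ) (t t' : (∏ᶜ C).X q)
    (h : ∀ k, (Pi.π C k).f q t = (Pi.π C k).f q t') : t = t' := by
  refine Concrete.isLimit_ext _ (isLimitOfPreserves (HomologicalComplex.eval AddCommGrpCat.{u}
    (ComplexShape.up ℤ) q) (limit.isLimit (Discrete.functor C))) t t' ?_
  rintro ⟨k⟩
  exact h k

theorem exists_cycle {D : HomologicalComplex AddCommGrpCat.{u} (ComplexShape.up ℤ)} (q : ℤ) (x : D.X q)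
    (hx : D.d q (q + 1) x = 0) : ∃ z : D.cycles q, D.iCycles q z = x :=
  (ShortComplex.ab_exact_iff _).1 (ShortComplex.exact_of_f_is_kernel
    (ShortComplex.mk (D.iCycles q) (D.d q (q + 1)) (by simp))
    (D.cyclesIsKernel q (q + 1) ((ComplexShape.up ℤ).next_eq' rfl))) x hx

theorem exists_boundary {D : HomologicalComplex AddCommGrpCat.{u} (ComplexShape.up ℤ)} (i q : ℤ)
    (hiq : i + 1 = q) (z : D.cycles q) (hz : D.homologyπ q z = 0) :
    ∃ b : D.X i, D.toCycles i q b = z :=
  (ShortComplex.ab_exact_iff _).1 (ShortComplex.exact_of_g_is_cokernel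
    (ShortComplex.mk (D.toCycles i q) (D.homologyπ q) (by simp))
    (D.homologyIsCokernel i q ((ComplexShape.up ℤ).prev_eq' hiq))) z hz

/-- Cohomology of a product of complexes of abelian groups. -/
theorem bijective_homology_pi (q : ℤ) :
    Function.Bijective (fun (x : (∏ᶜ C).homology q) k => HomologicalComplex.homologyMap (Pi.π C k) q x) := by
  have hπ : ∀ (k : ι) (z : (∏ᶜ C).cycles q), HomologicalComplex.homologyMap (Pi.π C k) q
      ((∏ᶜ C).homologyπ q z) = (C k).homologyπ q (HomologicalComplex.cyclesMap (Pi.π C k) q z) :=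
    fun k z => ConcreteCategory.congr_hom (HomologicalComplex.homologyπ_naturality (Pi.π C k) q) z
  have hi : ∀ (k : ι) (z : (∏ᶜ C).cycles q), (C k).iCycles q (HomologicalComplex.cyclesMap (Pi.π C k) q z) =
      (Pi.π C k).f q ((∏ᶜ C).iCycles q z) :=
    fun k z => ConcreteCategory.congr_hom (HomologicalComplex.cyclesMap_i (Pi.π C k) q) z
  have hd : ∀ (k : ι) (i j : ℤ) (x : (∏ᶜ C).X i), (Pi.π C k).f j ((∏ᶜ C).d i j x) =
      (C k).d i j ((Pi.π C k).f i x) :=
    fun k i j x => (ConcreteCategory.congr_hom ((Pi.π C k).comm i j) x).symm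
  constructor
  · intro x y h
    rw [← sub_eq_zero]
    have hk : ∀ k, HomologicalComplex.homologyMap (Pi.π C k) q (x - y) = 0 := fun k => by
      rw [map_sub, sub_eq_zero]
      exact congrFun h k
    obtain ⟨z, hz⟩ := ((AddCommGrpCat.epi_iff_surjective ((∏ᶜ C).homologyπ q)).1 inferInstance) (x - y)
    rw [← hz] at hk ⊢
    have hb : ∀ k, ∃ b : (C k).X (q - 1),
        (C k).toCycles (q - 1) q b = HomologicalComplex.cyclesMap (Pi.π C k) q z := fun k =>
      exists_boundary (q - 1) q (by omega) _ ((hπ k z).symm.trans (hk k))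
    choose b hb using hb
    obtain ⟨b', hb'⟩ := exists_pi_term C (q - 1) b
    have hz' : (∏ᶜ C).toCycles (q - 1) q b' = z := by
      refine ((AddCommGrpCat.mono_iff_injective ((∏ᶜ C).iCycles q)).1 inferInstance) (pi_term_ext C q _ _ fun k => ?_)
      rw [← ConcreteCategory.comp_apply ((∏ᶜ C).toCycles (q - 1) q), HomologicalComplex.toCycles_i, hd, hb',
        ← HomologicalComplex.toCycles_i, ConcreteCategory.comp_apply, hb, hi]
    rw [← hz', ← ConcreteCategory.comp_apply, HomologicalComplex.toCycles_comp_homologyπ]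
    rfl
  · intro s
    choose z hz using fun k =>
      ((AddCommGrpCat.epi_iff_surjective ((C k).homologyπ q)).1 inferInstance) (s k)
    obtain ⟨x, hx⟩ := exists_pi_term C q fun k => (C k).iCycles q (z k)
    obtain ⟨w, hw⟩ := exists_cycle q x (pi_term_ext C (q + 1) _ _ fun k => by
      rw [hd, hx, map_zero, ← ConcreteCategory.comp_apply, HomologicalComplex.iCycles_d]
      rfl)
    refine ⟨(∏ᶜ C).homologyπ q w, funext fun k => ?_⟩
    change HomologicalComplex.homologyMap (Pi.π C k) q _ = s k
    rw [hπ, ← hz k]
    congr 1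
    refine ((AddCommGrpCat.mono_iff_injective ((C k).iCycles q)).1 inferInstance) ?_
    rw [hi, hw, hx]

variable (K : ℕᵒᵖ ⥤ HomologicalComplex AddCommGrpCat.{u} (ComplexShape.up ℤ))
  (hK : ∀ (n : ℕ) (q : ℤ), Function.Surjective ((K.map (homOfLE (Nat.le_succ n)).op).f q).hom)

include hK in
theorem epi_diff_complexes : Epi (diff K) := by
  have : ∀ q, Epi ((diff K).f q) := fun q => by
    let G : ℕ → HomologicalComplex AddCommGrpCat.{u} (ComplexShape.up ℤ) := fun n => K.obj (op n)
    refine (AddCommGrpCat.epi_iff_surjective _).2 fun b => ?_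
    choose g hg using fun n => hK n q
    let a : ∀ n, (G n).X q := fun n => Nat.rec 0 (fun k ak => g k (ak - (Pi.π G k).f q b)) n
    obtain ⟨t, ht⟩ := exists_pi_term G q a
    refine ⟨t, pi_term_ext G q _ _ fun n => ?_⟩
    refine (ConcreteCategory.congr_hom
      (congrArg (fun g => g.f q) (Pi.lift_π
        (fun n => Pi.π G n - Pi.π G (n + 1) ≫ K.map (homOfLE (Nat.le_succ n)).op) n)) t).trans ?_
    change (Pi.π G n).f q t -
      (K.map (homOfLE (Nat.le_succ n)).op).f q ((Pi.π G (n + 1)).f q t) = _
    rw [ht, ht]
    have h1 : (K.map (homOfLE (Nat.le_succ n)).op).f q (a (n + 1)) = a n - (Pi.π G n).f q b := hg n _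
    rw [h1, sub_sub_cancel]
  exact HomologicalComplex.epi_of_epi_f (diff K) this

include hK in
/-- The Milnor sequence for a tower of complexes with surjective transition maps. -/
theorem milnor_complexes (p q : ℤ) (hqp : q + 1 = p) :
    Function.Surjective (limit.post K (HomologicalComplex.homologyFunctor _ _ p)).hom ∧
      Nonempty ((limit.post K (HomologicalComplex.homologyFunctor _ _ p)).hom.ker ≃+
        Formal2.limOne (fun n => (K.obj (op n)).homology q)
          (fun n => (HomologicalComplex.homologyMap (K.map (homOfLE (Nat.le_succ n)).op) q).hom)) := by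
  let G : ℕ → HomologicalComplex AddCommGrpCat.{u} (ComplexShape.up ℤ) := fun n => K.obj (op n)
  let pr : ∀ n, (∏ᶜ G) ⟶ G n := Pi.π G
  let φ : ∀ i, (∏ᶜ G).homology i ≃+ (∀ n : ℕ, (G n).homology i) := fun i =>
    AddEquiv.ofBijective (AddMonoidHom.mk'
      (fun x n => HomologicalComplex.homologyMap (pr n) i x) (fun a b => funext fun n => map_add _ a b))
      (bijective_homology_pi G i)
  have hS := towerShort_shortExact K (epi_diff_complexes K hK)
  have hdiff : ∀ (i : ℤ) (x : (∏ᶜ G).homology i) (n : ℕ),
      φ i (HomologicalComplex.homologyMap (diff K) i x) n = φ i x n -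
        HomologicalComplex.homologyMap (K.map (homOfLE (Nat.le_succ n)).op) i (φ i x (n + 1)) := by
    intro i x n
    change (HomologicalComplex.homologyMap (diff K) i ≫ HomologicalComplex.homologyMap (pr n) i) x =
      (HomologicalComplex.homologyMap (pr n) i -
        HomologicalComplex.homologyMap (pr (n + 1)) i ≫
          HomologicalComplex.homologyMap (K.map (homOfLE (Nat.le_succ n)).op) i) x
    rw [← HomologicalComplex.homologyMap_comp, ← HomologicalComplex.homologyMap_comp,
      ← HomologicalComplex.homologyMap_sub]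
    exact congrArg (fun g => (ConcreteCategory.hom (HomologicalComplex.homologyMap g i)) x) (Pi.lift_π
      (fun n => Pi.π G n - Pi.π G (n + 1) ≫ K.map (homOfLE (Nat.le_succ n)).op) n)
  have hpr : ∀ (i : ℤ) (η : (limit K).homology i) (n : ℕ),
      φ i (HomologicalComplex.homologyMap (limToPi K) i η) n =
        HomologicalComplex.homologyMap (limit.π K (op n)) i η := by
    intro i η n
    change (HomologicalComplex.homologyMap (limToPi K) i ≫ HomologicalComplex.homologyMap (pr n) i) η = _
    rw [← HomologicalComplex.homologyMap_comp]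
    exact congrArg (fun g => (ConcreteCategory.hom (HomologicalComplex.homologyMap g i)) η) (Pi.lift_π (fun n => limit.π K (op n)) n)
  have hpost : ∀ (η : (limit K).homology p) (n : ℕ),
      limit.π (K ⋙ HomologicalComplex.homologyFunctor _ _ p) (op n)
        ((limit.post K (HomologicalComplex.homologyFunctor _ _ p)).hom η) =
        HomologicalComplex.homologyMap (limit.π K (op n)) p η := fun η n =>
    ConcreteCategory.congr_hom (limit.post_π K (HomologicalComplex.homologyFunctor _ _ p) (op n)) η
  constructor
  · intro x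
    let ξ : ∀ n, (G n).homology p := fun n =>
      limit.π (K ⋙ HomologicalComplex.homologyFunctor _ _ p) (op n) x
    have hξ : ∀ n, HomologicalComplex.homologyMap (K.map (homOfLE (Nat.le_succ n)).op) p (ξ (n + 1)) = ξ n :=
      fun n => ConcreteCategory.congr_hom
        (limit.w (K ⋙ HomologicalComplex.homologyFunctor _ _ p) (homOfLE (Nat.le_succ n)).op) x
    obtain ⟨η, hη⟩ := (ShortComplex.ab_exact_iff _).1 (hS.homology_exact₂ p) ((φ p).symm ξ) (by
      refine (φ p).injective (funext fun n => ?_)
      change φ p (HomologicalComplex.homologyMap (diff K) p _) n = _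
      rw [hdiff, AddEquiv.apply_symm_apply, hξ, sub_self, map_zero]
      rfl)
    refine ⟨η, Concrete.limit_ext _ _ _ fun ⟨n⟩ => ?_⟩
    refine (hpost η n).trans ?_
    refine (hpr p η n).symm.trans ?_
    exact congrFun ((congrArg (φ p) hη).trans ((φ p).apply_symm_apply ξ)) n
  · let δ : (∀ n : ℕ, (G n).homology q) →+ (limit K).homology p :=
      (hS.δ q p hqp).hom.comp (φ q).symm.toAddMonoidHom
    let Ψ := (limit.post K (HomologicalComplex.homologyFunctor _ _ p)).hom
    have hmem : ∀ x, δ x ∈ Ψ.ker := fun x => by
      suffices h : Ψ (δ x) = 0 from h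
      refine Concrete.limit_ext _ _ _ fun ⟨n⟩ => ?_
      rw [map_zero]
      refine (hpost _ n).trans ((hpr p _ n).symm.trans ?_)
      have h0 : HomologicalComplex.homologyMap (limToPi K) p (δ x) = 0 :=
        ConcreteCategory.congr_hom (hS.δ_comp q p hqp) _
      rw [h0, map_zero]
      rfl
    let Θ := δ.codRestrict Ψ.ker hmem
    have hsurj : Function.Surjective Θ := by
      rintro ⟨η, hη⟩
      obtain ⟨y, hy⟩ := (ShortComplex.ab_exact_iff _).1 (hS.homology_exact₁ q p hqp) η (by
        refine (φ p).injective (funext fun n => ?_)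
        change φ p (HomologicalComplex.homologyMap (limToPi K) p η) n = _
        rw [hpr, map_zero]
        exact (hpost η n).symm.trans
          ((congrArg (limit.π (K ⋙ HomologicalComplex.homologyFunctor _ _ p) (op n)) hη).trans (map_zero _)))
      refine ⟨φ q y, Subtype.ext ?_⟩
      change hS.δ q p hqp ((φ q).symm (φ q y)) = η
      rw [AddEquiv.symm_apply_apply]
      exact hy
    let t : ∀ n : ℕ, (G (n + 1)).homology q →+ (G n).homology q := fun n =>
      (HomologicalComplex.homologyMap (K.map (homOfLE (Nat.le_succ n)).op) q).hom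
    have hker : Θ.ker = (Formal2.towerDiff (fun n : ℕ => (G n).homology q) t).range := by
      ext x
      constructor
      · intro hx
        obtain ⟨y, hy⟩ := (ShortComplex.ab_exact_iff _).1 (hS.homology_exact₃ q p hqp) ((φ q).symm x)
          (congrArg Subtype.val hx)
        refine ⟨φ q y, funext fun n => ?_⟩
        have h1 := hdiff q y n
        rw [show HomologicalComplex.homologyMap (diff K) q y = (φ q).symm x from hy,
          AddEquiv.apply_symm_apply] at h1
        exact h1.symm
      · rintro ⟨y, rfl⟩
        refine Subtype.ext ?_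
        have h1 : (φ q).symm (Formal2.towerDiff _ t y) =
            HomologicalComplex.homologyMap (diff K) q ((φ q).symm y) := by
          refine (φ q).injective (funext fun n => ?_)
          rw [hdiff, AddEquiv.apply_symm_apply, AddEquiv.apply_symm_apply]
          rfl
        change hS.δ q p hqp ((φ q).symm (Formal2.towerDiff _ t y)) = 0
        rw [h1]
        exact ConcreteCategory.congr_hom (hS.comp_δ q p hqp) _
    exact ⟨((QuotientAddGroup.quotientAddEquivOfEq hker).symm.trans
      (QuotientAddGroup.quotientKerEquivOfSurjective Θ hsurj)).symm⟩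

end GrothLib.LimCoh25
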