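import Groth.Agent.Lib.SheafCoh.Shift
import Groth.Prelude.Def_Formal2
import Mathlib.CategoryTheory.Limits.Shapes.Products
import Mathlib.CategoryTheory.Preadditive.Injective.Basic
import Mathlib.GroupTheory.QuotientGroup.Basic

/-!
# Ext into products and limits of towers
-/

universe w' w v u

open CategoryTheory Limits Abelian Opposite

namespace GrothLib.LimCoh25

open GrothLib.SheafCoh

variable {A : Type u} [Category.{v} A] [Abelian A] [HasExt.{w} A] [EnoughInjectives A]

section Prod

variable {ι : Type w'} [HasProductsOfShape ι A] (P : A → Prop)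
  (hInj : ∀ I : A, Injective I → P I)
  (hQuot : ∀ S : ShortComplex A, S.ShortExact → P S.X₁ → P S.X₂ → P S.X₃)
  (hEpi : ∀ S : ι → ShortComplex A, (∀ k, (S k).ShortExact) → (∀ k, P (S k).X₁) →
    Epi (Limits.Pi.map fun k => (S k).g))

/-- The product of a family of short complexes. -/
noncomputable abbrev piShort (S : ι → ShortComplex A) : ShortComplex A :=
  ShortComplex.mk (Limits.Pi.map fun k => (S k).f) (Limits.Pi.map fun k => (S k).g)
    (Pi.hom_ext _ _ fun k => by
      rw [Category.assoc, Pi.map_π, Pi.map_π_assoc, (S k).zero, comp_zero, zero_comp])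

/-- The projection from a product of short complexes. -/
noncomputable def piShortπ (S : ι → ShortComplex A) (k : ι) : piShort S ⟶ S k where
  τ₁ := Pi.π (fun k => (S k).X₁) k
  τ₂ := Pi.π (fun k => (S k).X₂) k
  τ₃ := Pi.π (fun k => (S k).X₃) k
  comm₁₂ := (Pi.map_π (fun k => (S k).f) k).symm
  comm₂₃ := (Pi.map_π (fun k => (S k).g) k).symm

omit [HasExt.{w} A] [EnoughInjectives A] in
include hEpi in
theorem piShort_shortExact (S : ι → ShortComplex A) (hS : ∀ k, (S k).ShortExact)
    (hP : ∀ k, P (S k).X₁) : (piShort S).ShortExact := by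
  have : ∀ k, Mono (S k).f := fun k => (hS k).mono_f
  refine { exact := ?_, mono_f := ?_, epi_g := hEpi S hS hP }
  · refine ShortComplex.exact_of_f_is_kernel _ ?_
    have hm : Mono (piShort S).f := inferInstanceAs (Mono (Limits.Pi.map fun k => (S k).f))
    refine KernelFork.IsLimit.ofι' _ _ fun {W} g hg => ⟨Pi.lift fun k =>
      ((hS k).exact.lift (g ≫ Pi.π (fun k => (S k).X₂) k) (by
        rw [Category.assoc, ← Pi.map_π (fun k => (S k).g) k, ← Category.assoc]
        exact (congrArg (· ≫ Pi.π (fun k => (S k).X₃) k) hg).trans zero_comp)), ?_⟩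
    refine Pi.hom_ext _ _ fun k => ?_
    simp
  · exact inferInstanceAs (Mono (Limits.Pi.map fun k => (S k).f))

include hInj hQuot hEpi in
theorem bijective_pi (X : A) (i : ℕ) : ∀ (F : ι → A), (∀ k, P (F k)) →
    Function.Bijective (fun (x : Ext X (∏ᶜ F) i) k => x.comp (Ext.mk₀ (Pi.π F k)) (add_zero i)) := by
  induction i with
  | zero =>
    intro F _
    constructor
    · intro x y h
      obtain ⟨a, rfl⟩ := (Ext.mk₀_bijective X (∏ᶜ F)).2 x
      obtain ⟨b, rfl⟩ := (Ext.mk₀_bijective X (∏ᶜ F)).2 y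
      refine congrArg _ (Pi.hom_ext _ _ fun k => ?_)
      have hk := congrFun h k
      simp only [Ext.mk₀_comp_mk₀] at hk
      exact (Ext.mk₀_bijective _ _).1 hk
    · intro x
      choose a ha using fun k => (Ext.mk₀_bijective X (F k)).2 (x k)
      exact ⟨Ext.mk₀ (Pi.lift a), funext fun k => by
        simp only [Ext.mk₀_comp_mk₀, Pi.lift_π, ha]⟩
  | succ i ih =>
    intro F hF
    let S : ι → ShortComplex A := fun k => injSES (F k)
    have hS : ∀ k, (S k).ShortExact := fun k => injSES_shortExact (F k)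
    have hI : ∀ k, P (S k).X₂ := fun k => hInj _ (Injective.injective_under (F k))
    have hQ : ∀ k, P (S k).X₃ := fun k => hQuot _ (hS k) (hF k) (hI k)
    have hPS := piShort_shortExact P hEpi S hS hF
    have hnat : ∀ (k : ι) (q : Ext X (piShort S).X₃ i),
        (q.comp hPS.extClass rfl).comp (Ext.mk₀ (Pi.π F k)) (add_zero (i + 1)) =
          (q.comp (Ext.mk₀ (Pi.π (fun k => (S k).X₃) k)) (add_zero i)).comp (hS k).extClass rfl := by
      intro k q
      rw [Ext.comp_assoc_of_third_deg_zero, Ext.comp_assoc_of_second_deg_zero]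
      have h := ShortComplex.ShortExact.extClass_naturality hPS (hS k) (piShortπ S k)
      change hPS.extClass.comp (Ext.mk₀ (Pi.π (fun k => (S k).X₁) k)) (add_zero 1) =
        (Ext.mk₀ (Pi.π (fun k => (S k).X₃) k)).comp (hS k).extClass (zero_add 1) at h
      exact congrArg (fun e => q.comp e rfl) h
    have hinjP : Injective (piShort S).X₂ := by
      have : ∀ k, Injective (S k).X₂ := fun k => Injective.injective_under (F k)
      exact inferInstanceAs (Injective (∏ᶜ fun k => (S k).X₂))
    have hvan : ∀ (k : ι), Subsingleton (Ext X (S k).X₂ (i + 1)) := fun k =>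
      have : Injective (S k).X₂ := Injective.injective_under (F k)
      Ext.subsingleton_of_injective _ _ _
    have hvanP : Subsingleton (Ext X (piShort S).X₂ (i + 1)) := Ext.subsingleton_of_injective _ _ _
    constructor
    · have h0 : ∀ x : Ext X (∏ᶜ F) (i + 1),
          (∀ k, x.comp (Ext.mk₀ (Pi.π F k)) (add_zero (i + 1)) = 0) → x = 0 := by
        intro x hx
        obtain ⟨q, rfl⟩ := extClass_surjective hPS i hvanP x
        have hk : ∀ k, ∃ p : Ext X (S k).X₂ i, p.comp (Ext.mk₀ (S k).g) (add_zero i) =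
            q.comp (Ext.mk₀ (Pi.π (fun k => (S k).X₃) k)) (add_zero i) := fun k =>
          Ext.covariant_sequence_exact₃ X (hS k) _ rfl ((hnat k q).symm.trans (hx k))
        choose p hp using hk
        obtain ⟨p', hp'⟩ := (ih _ hI).2 p
        have hq : p'.comp (Ext.mk₀ (piShort S).g) (add_zero i) = q := by
          refine (ih _ hQ).1 (funext fun k => ?_)
          have hc : (piShort S).g ≫ Pi.π (fun k => (S k).X₃) k =
              Pi.π (fun k => (S k).X₂) k ≫ (S k).g := Pi.map_π (fun k => (S k).g) k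
          simp only [Ext.comp_assoc_of_third_deg_zero, Ext.mk₀_comp_mk₀, hc]
          rw [← hp k, ← congrFun hp' k, Ext.comp_assoc_of_third_deg_zero, Ext.mk₀_comp_mk₀]
        rw [← hq, Ext.comp_assoc_of_second_deg_zero, hPS.comp_extClass, Ext.comp_zero]
      intro x y h
      rw [← sub_eq_zero]
      exact h0 _ fun k =>
        (map_sub ((Ext.mk₀ (Pi.π F k)).postcomp X (add_zero (i + 1))) x y).trans
          (sub_eq_zero.2 (congrFun h k))
    · intro x
      choose q hq using fun k => extClass_surjective (hS k) i (hvan k) (x k)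
      obtain ⟨q', hq'⟩ := (ih _ hQ).2 q
      refine ⟨q'.comp hPS.extClass rfl, funext fun k => ?_⟩
      refine (hnat k q').trans ?_
      rw [← hq k, ← congrFun hq' k]

end Prod

section Tower

variable [HasProductsOfShape ℕ A] (F : ℕᵒᵖ ⥤ A) [HasLimit F]

/-- The difference map. -/
noncomputable def diff : (∏ᶜ fun n : ℕ => F.obj (op n)) ⟶ ∏ᶜ fun n : ℕ => F.obj (op n) :=
  Pi.lift fun n => Pi.π (fun n : ℕ => F.obj (op n)) n -
    Pi.π (fun n : ℕ => F.obj (op n)) (n + 1) ≫ F.map (homOfLE (Nat.le_succ n)).op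

/-- The limit inside the product. -/
noncomputable def limToPi : limit F ⟶ ∏ᶜ fun n : ℕ => F.obj (op n) :=
  Pi.lift fun n => limit.π F (op n)

omit [HasExt.{w} A] [EnoughInjectives A] in
theorem limToPi_diff : limToPi F ≫ diff F = 0 := by
  refine Pi.hom_ext _ _ fun n => ?_
  simp [limToPi, diff]

/-- The short complex of a tower. -/
noncomputable abbrev towerShort : ShortComplex A :=
  ShortComplex.mk (limToPi F) (diff F) (limToPi_diff F)

omit [HasExt.{w} A] [EnoughInjectives A] in
theorem towerShort_shortExact (h : Epi (diff F)) : (towerShort F).ShortExact := by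
  have hm : Mono (towerShort F).f := ⟨fun a b hab => limit.hom_ext fun ⟨n⟩ => by
    have := congrArg (· ≫ Pi.π (fun n : ℕ => F.obj (op n)) n) hab
    simpa [limToPi] using this⟩
  refine { exact := ShortComplex.exact_of_f_is_kernel _ ?_, mono_f := hm, epi_g := h }
  refine KernelFork.IsLimit.ofι' _ _ fun {W} g hg => ?_
  let π : ∀ n, W ⟶ F.obj (op n) := fun n => g ≫ Pi.π (fun n : ℕ => F.obj (op n)) n
  have hstep : ∀ n, π (n + 1) ≫ F.map (homOfLE (Nat.le_succ n)).op = π n := fun n => by
    have := congrArg (· ≫ Pi.π (fun n : ℕ => F.obj (op n)) n) hg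
    simp [diff, Preadditive.comp_sub, sub_eq_zero] at this
    exact (Category.assoc _ _ _).trans this.symm
  have hle : ∀ {m n : ℕ} (h : n ≤ m), π m ≫ F.map (homOfLE h).op = π n := by
    intro m n h
    induction m, h using Nat.le_induction with
    | base =>
      rw [show (homOfLE (le_refl n)).op = 𝟙 (op n) from rfl, F.map_id, Category.comp_id]
    | succ m hm ih =>
      rw [show (homOfLE (hm.trans (Nat.le_succ m))).op = (homOfLE (Nat.le_succ m)).op ≫ (homOfLE hm).op
        from rfl, F.map_comp, reassoc_of% hstep m, ih]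
  refine ⟨limit.lift F ⟨W, { app := fun n => π n.unop, naturality := fun a b f => ?_ }⟩,
    Pi.hom_ext _ _ fun n => ?_⟩
  · exact (Category.id_comp _).trans (hle f.unop.le).symm
  · simp [limToPi, π]

omit [EnoughInjectives A] in
/-- The exact sequence of a tower. -/
theorem tower_sequence (X : A) (hD : Epi (diff F))
    (hbij : ∀ i : ℕ, Function.Bijective (fun (x : Ext X (∏ᶜ fun n : ℕ => F.obj (op n)) i) k =>
      x.comp (Ext.mk₀ (Pi.π (fun n : ℕ => F.obj (op n)) k)) (add_zero i))) (i j : ℕ) (hij : j + 1 = i) :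
    (∀ ξ : ∀ n : ℕ, Ext X (F.obj (op n)) i,
      (∀ n, (ξ (n + 1)).comp (Ext.mk₀ (F.map (homOfLE (Nat.le_succ n)).op)) (add_zero i) = ξ n) →
        ∃ η : Ext X (limit F) i, ∀ n, η.comp (Ext.mk₀ (limit.π F (op n))) (add_zero i) = ξ n) ∧
    Nonempty ((AddMonoidHom.mk' (fun (η : Ext X (limit F) i) (n : ℕ) =>
        η.comp (Ext.mk₀ (limit.π F (op n))) (add_zero i))
        (fun a b => funext fun n => Ext.add_comp a b _ _)).ker ≃+
      Formal2.limOne (fun n : ℕ => Ext X (F.obj (op n)) j)
        (fun n : ℕ => (Ext.mk₀ (F.map (homOfLE (Nat.le_succ n)).op)).postcomp X (add_zero j))) := by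
  let P : A := ∏ᶜ fun n : ℕ => F.obj (op n)
  let pr : ∀ k, P ⟶ F.obj (op k) := Pi.π (fun n : ℕ => F.obj (op n))
  let φ : ∀ i, Ext X P i ≃+ (∀ n : ℕ, Ext X (F.obj (op n)) i) := fun i =>
    AddEquiv.ofBijective (AddMonoidHom.mk' (fun x k => x.comp (Ext.mk₀ (pr k)) (add_zero i))
      (fun a b => funext fun k => Ext.add_comp a b _ _)) (hbij i)
  have hS := towerShort_shortExact F hD
  have hdiff : ∀ (i : ℕ) (x : Ext X P i) (n : ℕ),
      φ i (x.comp (Ext.mk₀ (diff F)) (add_zero i)) n = φ i x n -
        (φ i x (n + 1)).comp (Ext.mk₀ (F.map (homOfLE (Nat.le_succ n)).op)) (add_zero i) := by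
    intro i x n
    change (x.comp (Ext.mk₀ (diff F)) (add_zero i)).comp (Ext.mk₀ (pr n)) (add_zero i) =
      x.comp (Ext.mk₀ (pr n)) (add_zero i) - (x.comp (Ext.mk₀ (pr (n + 1))) (add_zero i)).comp
        (Ext.mk₀ (F.map (homOfLE (Nat.le_succ n)).op)) (add_zero i)
    rw [Ext.comp_assoc_of_third_deg_zero, Ext.comp_assoc_of_third_deg_zero, Ext.mk₀_comp_mk₀,
      Ext.mk₀_comp_mk₀]
    simp [diff, pr, sub_eq_add_neg, Ext.mk₀_add, Ext.mk₀_neg, Ext.comp_add, Ext.comp_neg]
  have hpr : ∀ (i : ℕ) (η : Ext X (limit F) i) (n : ℕ),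
      φ i (η.comp (Ext.mk₀ (limToPi F)) (add_zero i)) n =
        η.comp (Ext.mk₀ (limit.π F (op n))) (add_zero i) := by
    intro i η n
    change (η.comp (Ext.mk₀ (limToPi F)) (add_zero i)).comp (Ext.mk₀ (pr n)) (add_zero i) = _
    rw [Ext.comp_assoc_of_third_deg_zero, Ext.mk₀_comp_mk₀]
    simp [limToPi, pr]
  constructor
  · intro ξ hξ
    obtain ⟨η, hη⟩ := Ext.covariant_sequence_exact₂ X hS ((φ i).symm ξ) (by
      refine (φ i).injective (funext fun n => ?_)
      rw [hdiff, AddEquiv.apply_symm_apply, hξ, sub_self, map_zero]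
      rfl)
    refine ⟨η, fun n => ?_⟩
    rw [← hpr, hη, AddEquiv.apply_symm_apply]
  · let Ψ := AddMonoidHom.mk' (fun (η : Ext X (limit F) i) (n : ℕ) =>
        η.comp (Ext.mk₀ (limit.π F (op n))) (add_zero i))
        (fun a b => funext fun n => Ext.add_comp a b _ _)
    let δ : (∀ n : ℕ, Ext X (F.obj (op n)) j) →+ Ext X (limit F) i :=
      (hS.extClass.postcomp X hij).comp (φ j).symm.toAddMonoidHom
    have hmem : ∀ x, δ x ∈ Ψ.ker := fun x => by
      rw [AddMonoidHom.mem_ker]
      funext n
      change (δ x).comp (Ext.mk₀ (limit.π F (op n))) (add_zero i) = 0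
      rw [← hpr]
      change φ i ((((φ j).symm x).comp hS.extClass hij).comp (Ext.mk₀ (towerShort F).f) (add_zero i)) n = 0
      rw [Ext.comp_assoc_of_third_deg_zero, hS.extClass_comp, Ext.comp_zero, map_zero]
      rfl
    let Θ := δ.codRestrict Ψ.ker hmem
    have hsurj : Function.Surjective Θ := by
      rintro ⟨η, hη⟩
      obtain ⟨q, hq⟩ := Ext.covariant_sequence_exact₁ X hS η (by
        refine (φ i).injective (funext fun n => ?_)
        rw [hpr, map_zero]
        exact congrFun hη n) hij
      refine ⟨φ j q, Subtype.ext ?_⟩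
      change ((φ j).symm (φ j q)).comp hS.extClass hij = η
      rw [AddEquiv.symm_apply_apply, hq]
    let t : ∀ n : ℕ, Ext X (F.obj (op (n + 1))) j →+ Ext X (F.obj (op n)) j := fun n =>
      (Ext.mk₀ (F.map (homOfLE (Nat.le_succ n)).op)).postcomp X (add_zero j)
    have hker : Θ.ker = (Formal2.towerDiff (fun n : ℕ => Ext X (F.obj (op n)) j) t).range := by
      ext x
      constructor
      · intro hx
        obtain ⟨y, hy⟩ := Ext.covariant_sequence_exact₃ X hS ((φ j).symm x) hij (congrArg Subtype.val hx)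
        refine ⟨φ j y, funext fun n => ?_⟩
        have h1 := hdiff j y n
        rw [hy, AddEquiv.apply_symm_apply] at h1
        exact h1.symm
      · rintro ⟨y, rfl⟩
        refine Subtype.ext ?_
        have h1 : (φ j).symm (Formal2.towerDiff _ t y) =
            ((φ j).symm y).comp (Ext.mk₀ (diff F)) (add_zero j) := by
          refine (φ j).injective (funext fun n => ?_)
          rw [hdiff, AddEquiv.apply_symm_apply, AddEquiv.apply_symm_apply]
          rfl
        change ((φ j).symm (Formal2.towerDiff _ t y)).comp hS.extClass hij = 0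
        rw [h1, Ext.comp_assoc_of_second_deg_zero]
        exact (congrArg (fun e => ((φ j).symm y).comp e hij) hS.comp_extClass).trans (Ext.comp_zero _ _ _ _ _)
    exact ⟨((QuotientAddGroup.quotientAddEquivOfEq hker).symm.trans
      (QuotientAddGroup.quotientKerEquivOfSurjective Θ hsurj)).symm⟩

end Tower

end GrothLib.LimCoh25
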